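import Mathlib

/-!
# Finite facts about a dihedral group of permutations of seven points
-/

set_option autoImplicit false
set_option maxRecDepth 20000
set_option maxHeartbeats 1000000

namespace Cfsg.Agent.Fusion.OmegaSeven

open Equiv

/-- Sign vectors. -/
abbrev Sg : Type := Fin 7 → ℤˣ

/-- `(0 1)(2 3)`. -/
def d1 : Equiv.Perm (Fin 7) := swap 0 1 * swap 2 3
/-- `(0 2)(1 3)`. -/
def d2 : Equiv.Perm (Fin 7) := swap 0 2 * swap 1 3
/-- `(0 1)(4 5)`. -/
def d3 : Equiv.Perm (Fin 7) := swap 0 1 * swap 4 5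

/-- The elements of the dihedral group `⟨d1, d2, d3⟩`. -/
def Dlist : List (Equiv.Perm (Fin 7)) :=
  [1, d1, d2, d1 * d2, d3, d1 * d3, d2 * d3, d1 * (d2 * d3)]

/-- The dihedral group of order eight. -/
def Dg : Subgroup (Equiv.Perm (Fin 7)) where
  carrier := {π | π ∈ Dlist}
  one_mem' := List.mem_cons_self
  mul_mem' {a b} ha hb := by
    have : ∀ a ∈ Dlist, ∀ b ∈ Dlist, a * b ∈ Dlist := by decide +kernel
    exact this a ha b hb
  inv_mem' {a} ha := by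
    have : ∀ a ∈ Dlist, a⁻¹ ∈ Dlist := by decide +kernel
    exact this a ha

theorem mem_Dg {π : Equiv.Perm (Fin 7)} : π ∈ Dg ↔ π ∈ Dlist := Iff.rfl

instance : DecidablePred (· ∈ Dg) := fun π => decidable_of_iff (π ∈ Dlist) Iff.rfl

theorem Dlist_even : ∀ π ∈ Dlist, Equiv.Perm.sign π = 1 := by decide +kernel

theorem card_Dg : Nat.card Dg = 8 := by
  rw [Nat.card_congr (Equiv.subtypeEquivRight (q := fun π => π ∈ Dlist.toFinset)
    fun π => by rw [List.mem_toFinset]; rfl), Nat.card_eq_fintype_card, Fintype.card_coe]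
  decide +kernel

theorem Dlist_gen {T : Subgroup (Equiv.Perm (Fin 7))} (h1 : d1 ∈ T) (h2 : d2 ∈ T) (h3 : d3 ∈ T) :
    ∀ π ∈ Dlist, π ∈ T := by
  simp [Dlist, h1, h2, h3, mul_mem]

theorem d23_ne : d2 * d3 ≠ d3 * d2 := by decide +kernel

theorem d2_conj : ∃ π : Equiv.Perm (Fin 7), Equiv.Perm.sign π = 1 ∧ π * d1 * π⁻¹ = d2 :=
  ⟨swap 1 2 * swap 4 5, by decide +kernel, by decide +kernel⟩

theorem d3_conj : ∃ π : Equiv.Perm (Fin 7), Equiv.Perm.sign π = 1 ∧ π * d1 * π⁻¹ = d3 :=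
  ⟨swap 2 4 * swap 3 5, by decide +kernel, by decide +kernel⟩

/-- Two flips. -/
def fl (i j : Fin 7) : Sg := fun x => if x = i ∨ x = j then -1 else 1

theorem card_even : Nat.card {e : Sg // ∏ i, e i = 1} = 64 := by
  rw [Nat.card_eq_fintype_card]
  decide +kernel

theorem exists_even_moved : ∀ π ∈ Dlist, π ≠ 1 →
    ∃ e : Sg, (∏ i, e i = 1) ∧ ∃ i, e (π⁻¹ i) ≠ e i := by decide +kernel

theorem fixed_le : ∀ π ∈ Dlist, π ≠ 1 → π * π = 1 →
    Fintype.card {e : Sg // (∏ i, e i = 1) ∧ ∀ i, e (π i) = e i} ≤ 16 := by decide +kernel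

theorem fixed_pair_le : ∀ π ∈ Dlist, ∀ ρ ∈ Dlist, π ≠ 1 → ρ ≠ 1 → π ≠ ρ → π * π = 1 → ρ * ρ = 1 →
    π * ρ = ρ * π →
    Fintype.card {e : Sg // (∏ i, e i = 1) ∧ (∀ i, e (π i) = e i) ∧ ∀ i, e (ρ i) = e i} ≤ 8 := by
  decide +kernel

theorem exists_pair : ∀ e : Sg, (∏ i, e i = 1) → e ≠ 1 →
    ∃ i j k l : Fin 7, e i = -1 ∧ e j = 1 ∧ e k = e l ∧ (i ≠ j ∧ i ≠ k ∧ i ≠ l ∧ j ≠ k ∧ j ≠ l ∧ k ≠ l) := by
  decide +kernel

theorem pair_mul {e : Sg} {i j k l : Fin 7} (hi : e i = -1) (hj : e j = 1) (hkl : e k = e l)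
    (h : i ≠ j ∧ i ≠ k ∧ i ≠ l ∧ j ≠ k ∧ j ≠ l ∧ k ≠ l) :
    (fun x => e x * e ((swap i j * swap k l)⁻¹ x)) = fl i j := by
  obtain ⟨h1, h2, h3, h4, h5, h6⟩ := h
  funext x
  simp only [mul_inv_rev, Equiv.swap_inv, Equiv.Perm.mul_apply, fl]
  by_cases a : x = i
  · subst a; rw [swap_apply_left, swap_apply_of_ne_of_ne h4 h5]; simp [hi, hj]
  · by_cases b : x = j
    · subst b; rw [swap_apply_right, swap_apply_of_ne_of_ne h2 h3]; simp [hi, hj]
    · rw [swap_apply_of_ne_of_ne a b, if_neg (by simp [a, b])]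
      by_cases c : x = k
      · subst c; rw [swap_apply_left, hkl, Int.units_mul_self]
      · by_cases d : x = l
        · subst d; rw [swap_apply_right, hkl, Int.units_mul_self]
        · rw [swap_apply_of_ne_of_ne c d, Int.units_mul_self]

theorem even_eq_prod : ∀ e : Sg, (∏ i, e i = 1) →
    e = ∏ i : Fin 6, (if e i.castSucc = -1 then fl i.castSucc 6 else 1) := by decide +kernel

theorem sign_two_swaps {i j k l : Fin 7} (h1 : i ≠ j) (h2 : k ≠ l) :
    Equiv.Perm.sign (swap i j * swap k l) = 1 := by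
  rw [map_mul, Equiv.Perm.sign_swap h1, Equiv.Perm.sign_swap h2]; rfl

theorem exists_two_outside : ∀ a b : Fin 7,
    ∃ k l : Fin 7, k ≠ a ∧ l ≠ a ∧ k ≠ b ∧ l ≠ b ∧ k ≠ l := by decide +kernel

theorem exists_even_map {i j a b : Fin 7} (hij : i ≠ j) (hab : a ≠ b) :
    ∃ π : Equiv.Perm (Fin 7), Equiv.Perm.sign π = 1 ∧ π i = a ∧ π j = b := by
  let σ₁ : Equiv.Perm (Fin 7) := swap i a
  let σ : Equiv.Perm (Fin 7) := swap (σ₁ j) b * σ₁
  have hne : σ₁ j ≠ a := fun h => hij (σ₁.injective (by rw [h, swap_apply_left]))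
  have hσi : σ i = a := by
    show swap (σ₁ j) b (swap i a i) = a
    rw [swap_apply_left, swap_apply_of_ne_of_ne hne.symm hab]
  have hσj : σ j = b := swap_apply_left _ _
  rcases Int.units_eq_one_or (Equiv.Perm.sign σ) with h | h
  · exact ⟨σ, h, hσi, hσj⟩
  · obtain ⟨k, l, hk, hl, hk', hl', hkl⟩ := exists_two_outside a b
    refine ⟨swap k l * σ, by rw [map_mul, Equiv.Perm.sign_swap hkl, h]; rfl, ?_, ?_⟩
    · show swap k l (σ i) = a
      rw [hσi, swap_apply_of_ne_of_ne hk.symm hl.symm]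
    · show swap k l (σ j) = b
      rw [hσj, swap_apply_of_ne_of_ne hk'.symm hl'.symm]

/-- The candidates for a normalising permutation. -/
def cand (a b c d : Fin 4) (t : Bool) : Fin 7 → Fin 7 :=
  ![a.castLE (by norm_num), b.castLE (by norm_num), c.castLE (by norm_num),
    d.castLE (by norm_num), if t then 5 else 4, if t then 4 else 5, 6]

set_option synthInstance.maxSize 20000 in
theorem normalizer_small : ∀ a b c d : Fin 4, ∀ t : Bool,
    a ≠ b → a ≠ c → a ≠ d → b ≠ c → b ≠ d → c ≠ d →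
    (∀ δ ∈ Dlist, ∃ δ' ∈ Dlist, ∀ x, δ' (cand a b c d t x) = cand a b c d t (δ x)) →
    ∀ x, (cand a b c d t)^[8] x = x := by
  decide +kernel

theorem orbit_six : ∀ a : Fin 7, (∀ δ ∈ Dlist, δ a = a) → a = 6 := by decide +kernel

theorem orbit_two : ∀ a b : Fin 7, (∀ δ ∈ Dlist, δ a = a ∨ δ a = b) → a = 4 ∨ a = 5 ∨ a = 6 := by
  decide +kernel

end Cfsg.Agent.Fusion.OmegaSeven
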