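import Cfsg.Agent.Lib.Fusion.OmegaSeven.Main
import Cfsg.Agent.Lib.Classical.OrthForms

/-!
# The `2`-fusion system of `Ω₇(q)`, `q ≡ ±3 (mod 8)`

An orthogonal frame of seven vectors of norm `-1`, the order of a Sylow `2`-subgroup, and the transport
to an arbitrary one.
-/

set_option autoImplicit false

namespace Cfsg.Agent.Fusion.OmegaSeven

open Cfsg.Agent.Forms.Reflections Cfsg.Agent.Classical.OrthForms

variable {F : Type*} [Field F] [Fintype F]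

/-- An orthogonal frame of the form `x₀² + x₁y₁ + x₂y₂ + x₃y₃`. -/
theorem exists_frame (h2 : (2 : F) ≠ 0) : Nonempty (Frm (oddQ F 3)) := by
  classical
  obtain ⟨a, b, hab⟩ : ∃ a b : F, a ^ 2 + b ^ 2 = -1 := by
    obtain ⟨p, _⟩ := CharP.exists F
    have : Fact p.Prime := ⟨CharP.char_is_prime F p⟩
    obtain ⟨a, b, h⟩ := CharP.sq_add_sq F p (-1)
    exact ⟨a, b, by simpa using h⟩
  let ev : (F × (F × F) × (F × F) × (F × F)) → (Unit ⊕ (Fin 3 ⊕ Fin 3) → F) := fun p =>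
    Sum.elim (fun _ => p.1) (Sum.elim ![p.2.1.1, p.2.2.1.1, p.2.2.2.1] ![p.2.1.2, p.2.2.1.2, p.2.2.2.2])
  let v : Fin 7 → F × (F × F) × (F × F) × (F × F) := ![(0, (1, -1), (0, 0), (0, 0)),
    (0, (0, 0), (1, -1), (0, 0)), (0, (0, 0), (0, 0), (1, -1)), (a, (b, b), (0, 0), (0, 0)),
    (-b, (a, a), (0, 0), (0, 0)), (0, (0, 0), (a, a), (b, b)), (0, (0, 0), (-b, -b), (a, a))]
  refine ⟨⟨fun i => ev (v i), -1, by simp, h2, by simp, fun i => ?_, fun i j hij => ?_⟩⟩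
  · rw [oddQ_eq]
    fin_cases i <;> simp [Cfsg.quadFormOdd, ev, v, Fin.sum_univ_three] <;>
      first
        | ring1
        | linear_combination hab
  · simp only [QuadraticMap.polar, oddQ_eq]
    revert hij
    fin_cases i <;> fin_cases j <;> simp [Cfsg.quadFormOdd, ev, v, Fin.sum_univ_three] <;> ring

theorem not_isSquare_two {q : ℕ} (hF : Fintype.card F = q) (hq : q % 8 = 3 ∨ q % 8 = 5) :
    ¬ IsSquare (2 : F) := by
  rw [FiniteField.isSquare_two_iff]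
  omega

theorem two_pow_nine {q : ℕ} (hF : Fintype.card F = q) (hq : q % 8 = 3 ∨ q % 8 = 5) (h2 : (2 : F) ≠ 0) :
    ∃ r, Odd r ∧ Nat.card ↥(Cfsg.Omega F ⇑(oddQ F 3)) = 2 ^ 9 * r := by
  classical
  have hidx := (Cfsg.Omega F ⇑(oddQ F 3)).card_mul_index
  rw [Cfsg.Agent.Forms.Spinor.omega_index (oddQ_nondeg h2 3) h2 (by simp),
    natCard_O_odd hF h2 3] at hidx
  obtain ⟨A, hA, hA'⟩ : ∃ A, Odd A ∧ q ^ 2 = 8 * A + 1 := by
    have h16 : q ^ 2 % 16 = 9 := by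
      rw [Nat.pow_mod]
      have : q % 16 = 3 ∨ q % 16 = 5 ∨ q % 16 = 11 ∨ q % 16 = 13 := by omega
      rcases this with e | e | e | e <;> rw [e] <;> rfl
    exact ⟨q ^ 2 / 8, ⟨q ^ 2 / 16, by omega⟩, by omega⟩
  have e2 : q ^ 2 - 1 = 8 * A := by omega
  have e4 : q ^ 4 - 1 = 16 * (A * (4 * A + 1)) := by
    rw [show q ^ 4 = (q ^ 2) ^ 2 by ring, hA', show (8 * A + 1) ^ 2 = 16 * (A * (4 * A + 1)) + 1 by ring]
    omega
  have e6 : q ^ 6 - 1 = 8 * (A * (64 * A ^ 2 + 24 * A + 3)) := by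
    rw [show q ^ 6 = (q ^ 2) ^ 3 by ring, hA',
      show (8 * A + 1) ^ 3 = 8 * (A * (64 * A ^ 2 + 24 * A + 3)) + 1 by ring]
    omega
  rw [Finset.prod_range_succ, Finset.prod_range_succ, Finset.prod_range_succ, Finset.prod_range_zero,
    one_mul, show 2 * (0 + 1) = 2 from rfl, show 2 * (1 + 1) = 4 from rfl, show 2 * (2 + 1) = 6 from rfl,
    e2, e4, e6] at hidx
  have hoq : Odd q := Nat.odd_iff.2 (by omega)
  refine ⟨q ^ 9 * A * (A * (4 * A + 1)) * (A * (64 * A ^ 2 + 24 * A + 3)), ?_, ?_⟩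
  · exact ((hoq.pow.mul hA).mul (hA.mul ⟨2 * A, by ring⟩)).mul
      (hA.mul ⟨32 * A ^ 2 + 12 * A + 1, by ring⟩)
  · have h3 : (3 : ℕ) ^ 2 = 9 := rfl
    rw [h3] at hidx
    linarith

open Cfsg.Agent.Fusion.Subsystems Cfsg.Agent.Fusion.Group in
theorem fusion_main {q : ℕ} (hF : Fintype.card F = q) (hq : q % 8 = 3 ∨ q % 8 = 5)
    (S : Sylow 2 ↥(Cfsg.Omega F ⇑(oddQ F 3))) :
    (Cfsg.groupFusionSystem (S : Subgroup ↥(Cfsg.Omega F ⇑(oddQ F 3)))).autGroup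
        (S : Subgroup ↥(Cfsg.Omega F ⇑(oddQ F 3))) = Cfsg.Inn ↥(S : Subgroup ↥(Cfsg.Omega F ⇑(oddQ F 3))) ∧
      (∀ T : Subgroup ↥(Cfsg.Omega F ⇑(oddQ F 3)),
        (Cfsg.groupFusionSystem (S : Subgroup ↥(Cfsg.Omega F ⇑(oddQ F 3)))).StronglyClosed T →
          T = ⊥ ∨ T = (S : Subgroup ↥(Cfsg.Omega F ⇑(oddQ F 3)))) ∧
      (Cfsg.groupFusionSystem (S : Subgroup ↥(Cfsg.Omega F ⇑(oddQ F 3)))).IsSimple 2 := by
  classical
  have h2 : (2 : F) ≠ 0 := two_ne_zero_of_odd (Nat.odd_iff.2 (by omega))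
  have h8 := not_isSquare_two hF hq
  obtain ⟨W₀⟩ := exists_frame h2
  obtain ⟨r, hr, hcard⟩ := two_pow_nine hF hq h2
  have : Fact (Nat.Prime 2) := ⟨Nat.prime_two⟩
  have hr2 : ¬ 2 ∣ r := fun h => by rw [Nat.odd_iff] at hr; omega
  have hfac : (Nat.card ↥(Cfsg.Omega F ⇑(oddQ F 3))).factorization 2 = 9 := by
    rw [hcard, Nat.factorization_mul (by norm_num) (by rintro rfl; simp at hr),
      Finsupp.add_apply, Nat.Prime.factorization_pow Nat.prime_two,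
      Nat.factorization_eq_zero_of_not_dvd hr2]
    simp
  let S₀ : Sylow 2 ↥(Cfsg.Omega F ⇑(oddQ F 3)) :=
    Sylow.ofCard (W₀.syl h8) (by rw [W₀.card_syl, hfac])
  obtain ⟨y, hy⟩ := MulAction.exists_smul_eq ↥(Cfsg.Omega F ⇑(oddQ F 3)) S₀ S
  let W := W₀.move (y : Cfsg.isometryGroup F ⇑(oddQ F 3))
  have hsyl : W.syl h8 = (S : Subgroup ↥(Cfsg.Omega F ⇑(oddQ F 3))) := by
    rw [← hy]
    refine le_antisymm (fun g hg => ?_) (fun g hg => ?_)
    · obtain ⟨m, hm, e⟩ := (W.mem_syl h8).1 hg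
      rw [Sylow.coe_subgroup_smul, Subgroup.mem_pointwise_smul_iff_inv_smul_mem]
      refine (W₀.mem_syl h8).2 ⟨m, hm, ?_⟩
      rw [Frm.mon_move] at e
      simp [e, mul_assoc]
    · rw [Sylow.coe_subgroup_smul, Subgroup.mem_pointwise_smul_iff_inv_smul_mem] at hg
      obtain ⟨m, hm, e⟩ := (W₀.mem_syl h8).1 hg
      refine (W.mem_syl h8).2 ⟨m, hm, ?_⟩
      rw [Frm.mon_move, ← e]
      simp [mul_assoc]
  have hmax : ∀ P : Subgroup ↥(Cfsg.Omega F ⇑(oddQ F 3)), IsPGroup 2 P → W.syl h8 ≤ P → P = W.syl h8 :=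
    fun P hP hle => by rw [hsyl] at hle ⊢; exact S.is_maximal' hP hle
  have haut := W.autGroup_syl h8 hmax
  have hsc := W.stronglyClosed_syl h8
  rw [hsyl] at haut hsc
  refine ⟨haut, hsc, simple_of_no_stronglyClosed (group_saturated S) ?_ haut hsc⟩
  intro hbot
  have h := W.card_syl h8
  rw [hsyl, hbot, Subgroup.card_bot] at h
  norm_num at h

end Cfsg.Agent.Fusion.OmegaSeven
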