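import Cfsg.Agent.Lib.Fusion.OmegaSeven.Monomial
import Cfsg.Agent.Lib.Fusion.Subsystems
import Cfsg.Agent.Lib.Fusion.Group

/-!
# The `2`-fusion system of a seven dimensional orthogonal group with `2` a non-square

The image of `2^6 ⋊ D₈` under an orthogonal frame is a Sylow `2`-subgroup, equal to its normalizer, and
no proper nontrivial subgroup of it is strongly closed.
-/

set_option autoImplicit false

namespace Cfsg.Agent.Fusion.OmegaSeven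

open Cfsg.Agent.Forms.Reflections Equiv
open Cfsg.FusionSystem Cfsg.Agent.Fusion.Basic Cfsg.Agent.Fusion.Group Cfsg.Agent.Fusion.Subsystems

variable {F : Type*} [Field F] [Fintype F] {ι : Type} [Fintype ι] [DecidableEq ι]
variable {Q : QuadraticForm F (ι → F)}

namespace Frm

variable (W : Frm Q) (h8 : ¬ IsSquare (2 : F))

/-- The homomorphism of `2^6 ⋊ A₇` into `Ω`. -/
noncomputable def omHom : ↥K0 →* ↥(Cfsg.Omega F ⇑Q) :=
  (W.mon.comp K0.subtype).codRestrict _ fun m => W.mon_mem_omega h8 m.2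

theorem omHom_val (m : ↥K0) : (W.omHom h8 m : Cfsg.isometryGroup F ⇑Q) = W.mon m.1 := rfl

theorem omHom_injective : Function.Injective (W.omHom h8) := fun a b h =>
  Subtype.ext (W.mon_injective (congrArg Subtype.val h))

/-- The Sylow `2`-subgroup. -/
noncomputable def syl : Subgroup ↥(Cfsg.Omega F ⇑Q) := (S0.subgroupOf K0).map (W.omHom h8)

theorem mem_syl {g : ↥(Cfsg.Omega F ⇑Q)} :
    g ∈ W.syl h8 ↔ ∃ m ∈ S0, (g : Cfsg.isometryGroup F ⇑Q) = W.mon m := by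
  constructor
  · rintro ⟨m, hm, rfl⟩
    exact ⟨m.1, hm, rfl⟩
  · rintro ⟨m, hm, e⟩
    exact ⟨⟨m, S0_le hm⟩, hm, Subtype.ext e.symm⟩

theorem card_syl : Nat.card (W.syl h8) = 2 ^ 9 := by
  rw [syl, Subgroup.card_map_of_injective (W.omHom_injective h8),
    Nat.card_congr (Subgroup.subgroupOfEquivOfLe S0_le).toEquiv, card_S0]

theorem syl_isPGroup : IsPGroup 2 (W.syl h8) := IsPGroup.of_card (W.card_syl h8)

theorem normalizer_isPGroup (g : ↥(Cfsg.Omega F ⇑Q))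
    (hg : g ∈ Subgroup.normalizer (W.syl h8 : Set ↥(Cfsg.Omega F ⇑Q))) : g ^ 2 ^ 4 = 1 := by
  classical
  have hn : ∀ x, x ∈ W.syl h8 ↔ g * x * g⁻¹ ∈ W.syl h8 := Subgroup.mem_normalizer_iff.1 hg
  have hsig : ∀ m ∈ S0, ∃ m' ∈ S0, (g : Cfsg.isometryGroup F ⇑Q) * W.mon m * (g : Cfsg.isometryGroup F ⇑Q)⁻¹ =
      W.mon m' := fun m hm =>
    (W.mem_syl h8).1 ((hn ⟨W.mon m, W.mon_mem_omega h8 (S0_le hm)⟩).1 ((W.mem_syl h8).2 ⟨m, hm, rfl⟩))
  choose! σ hσS hσ using hsig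
  have hσmul : ∀ a ∈ S0, ∀ b ∈ S0, σ (a * b) = σ a * σ b := fun a ha b hb => W.mon_injective (by
    rw [map_mul, ← hσ a ha, ← hσ b hb, ← hσ _ (S0.mul_mem ha hb), map_mul]; group)
  have hσinj : ∀ a ∈ S0, ∀ b ∈ S0, σ a = σ b → a = b := fun a ha b hb e => W.mon_injective (by
    simpa using (hσ a ha).trans ((congrArg W.mon e).trans (hσ b hb).symm))
  let Ev := {e : Sg // ∏ i, e i = 1}
  let φ : ↥((MS.par.comp MS.inl).ker) →* MS := MonoidHom.mk' (fun e => σ (MS.inl e.1))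
    fun a b => by
      show σ (MS.inl (a.1 * b.1)) = _
      rw [map_mul]
      exact hσmul _ (inl_mem_S0 a.2) _ (inl_mem_S0 b.2)
  have hφinj : Function.Injective φ := fun a b e => Subtype.ext (congrArg MS.e
    (hσinj _ (inl_mem_S0 a.2) _ (inl_mem_S0 b.2) e))
  have hA : φ.range ≤ S0 := by
    rintro _ ⟨e, rfl⟩; exact hσS _ (inl_mem_S0 e.2)
  have hsq : ∀ a ∈ φ.range, a * a = 1 := by
    rintro _ ⟨e, rfl⟩
    rw [← map_mul]
    convert map_one φ using 2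
    exact Subtype.ext (funext fun i => Int.units_mul_self _)
  have hcard : Nat.card φ.range = 64 := by
    rw [← Nat.card_congr (MonoidHom.ofInjective hφinj).toEquiv]
    exact card_even
  have hperm := perm_trivial_of_card hA hsq hcard
  let ψ : Ev → Ev := fun e => ⟨(σ (MS.inl e.1)).e, (hσS _ (inl_mem_S0 e.2)).1⟩
  have hψ : ∀ e : Ev, σ (MS.inl e.1) = MS.inl (ψ e).1 := fun e =>
    MS.ext rfl (hperm _ ⟨⟨e.1, e.2⟩, rfl⟩)
  have hψinj : Function.Injective ψ := fun a b e => Subtype.ext (congrArg MS.e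
    (hσinj _ (inl_mem_S0 a.2) _ (inl_mem_S0 b.2) (by rw [hψ, hψ, e])))
  obtain ⟨m, hm⟩ := W.exists_mon (g : Cfsg.isometryGroup F ⇑Q) fun e he => by
    obtain ⟨e', he'⟩ := Finite.injective_iff_surjective.1 hψinj ⟨e, he⟩
    refine ⟨e'.1, ?_⟩
    have h1 := hσ _ (inl_mem_S0 e'.2)
    rw [hψ e', he'] at h1
    rw [← h1, inv_mul_cancel_right]
  have h8' : m.s ^ 8 = 1 := by
    refine pow_eight_of_normalizes fun δ hδ => ?_
    have hδS : MS.inr δ ∈ S0 := ⟨MS.par_inr δ, hδ⟩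
    have h1 := hσ _ hδS
    rw [hm, ← map_inv, ← map_mul, ← map_mul] at h1
    have h2 := congrArg MS.s (W.mon_injective h1)
    simp only [MS.mul_s, MS.inr_s, MS.inv_s] at h2
    rw [h2]
    exact (hσS _ hδS).2
  refine Subtype.ext ?_
  show (g : Cfsg.isometryGroup F ⇑Q) ^ 2 ^ 4 = 1
  have hs : (m ^ 8).s = 1 := by
    have : ∀ n : ℕ, (m ^ n).s = m.s ^ n := fun n => by
      induction n with
      | zero => simp
      | succ n ih => rw [pow_succ, pow_succ, MS.mul_s, ih]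
    rw [this, h8']
  have h16 : m ^ 2 ^ 4 = 1 := by
    rw [show (2 : ℕ) ^ 4 = 8 + 8 by norm_num, pow_add]
    exact MS.ext (funext fun i => by simp [hs, Int.units_mul_self]) (by simp [hs])
  rw [hm, ← map_pow, h16, map_one]

theorem normalizer_le (hmax : ∀ P : Subgroup ↥(Cfsg.Omega F ⇑Q), IsPGroup 2 P → W.syl h8 ≤ P → P = W.syl h8) :
    Subgroup.normalizer (W.syl h8 : Set ↥(Cfsg.Omega F ⇑Q)) ≤ W.syl h8 := by
  refine le_of_eq (hmax _ (fun g => ⟨4, Subtype.ext ?_⟩) Subgroup.le_normalizer)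
  exact W.normalizer_isPGroup h8 g.1 g.2

theorem autGroup_syl (hmax : ∀ P : Subgroup ↥(Cfsg.Omega F ⇑Q), IsPGroup 2 P → W.syl h8 ≤ P → P = W.syl h8) :
    (Cfsg.groupFusionSystem (W.syl h8)).autGroup (W.syl h8) = Cfsg.Inn ↥(W.syl h8) := by
  rw [autGroup_group le_rfl]
  refine le_antisymm (fun α hα => ?_) (inn_le_autInducedBy le_top)
  obtain ⟨g, hg, h⟩ := mem_autInducedBy_iff'.1 hα
  exact mem_inn_iff.2 ⟨g, W.normalizer_le h8 hmax hg.2, h⟩

theorem stronglyClosed_syl (T : Subgroup ↥(Cfsg.Omega F ⇑Q))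
    (hT : (Cfsg.groupFusionSystem (W.syl h8)).StronglyClosed T) : T = ⊥ ∨ T = W.syl h8 := by
  classical
  by_cases hbot : T = ⊥
  · exact Or.inl hbot
  refine Or.inr (le_antisymm hT.1 ?_)
  have cl : ∀ x ∈ T, ∀ y : ↥(Cfsg.Omega F ⇑Q), y * x * y⁻¹ ∈ W.syl h8 → y * x * y⁻¹ ∈ T := by
    intro x hx y hy
    let P := Subgroup.zpowers x
    have hP : P ≤ T := Subgroup.zpowers_le.2 hx
    let φ : ↥P →* ↥(Cfsg.Omega F ⇑Q) := (MulAut.conj y).toMonoidHom.comp P.subtype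
    have hφS : ∀ z : P, φ z ∈ W.syl h8 := fun z => by
      obtain ⟨n, hn⟩ := Subgroup.mem_zpowers_iff.1 z.2
      show y * z.1 * y⁻¹ ∈ _
      rw [← hn, ← conj_zpow]
      exact (W.syl h8).zpow_mem hy n
    exact hT.2 P hP φ ⟨hP.trans hT.1, hφS, y, fun z => rfl⟩ ⟨x, Subgroup.mem_zpowers x⟩
  let Tm : Subgroup MS := (T.comap (W.omHom h8)).map K0.subtype
  have mem_Tm : ∀ {m : MS}, m ∈ Tm ↔ ∃ h : m ∈ K0, W.omHom h8 ⟨m, h⟩ ∈ T := fun {m} => by
    constructor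
    · rintro ⟨k, hk, rfl⟩; exact ⟨k.2, hk⟩
    · rintro ⟨h, h'⟩; exact ⟨⟨m, h⟩, h', rfl⟩
  have hTm : Tm ≤ S0 := fun m hm => by
    obtain ⟨h, h'⟩ := mem_Tm.1 hm
    obtain ⟨m', hm', e⟩ := (W.mem_syl h8).1 (hT.1 h')
    rwa [show m = m' from W.mon_injective e]
  have clm : ∀ m ∈ Tm, ∀ k ∈ K0, k * m * k⁻¹ ∈ S0 → k * m * k⁻¹ ∈ Tm := by
    intro m hm k hk hS
    obtain ⟨h, h'⟩ := mem_Tm.1 hm
    have := cl _ h' (W.omHom h8 ⟨k, hk⟩) (by
      rw [← map_inv, ← map_mul, ← map_mul]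
      exact ⟨_, hS, rfl⟩)
    rw [← map_inv, ← map_mul, ← map_mul] at this
    exact mem_Tm.2 ⟨_, this⟩
  obtain ⟨x, hx, hx1⟩ : ∃ m ∈ Tm, m ≠ 1 := by
    by_contra h
    push Not at h
    refine hbot (eq_bot_iff.2 fun g hg => ?_)
    obtain ⟨m, hm, e⟩ := (W.mem_syl h8).1 (hT.1 hg)
    have : m ∈ Tm := mem_Tm.2 ⟨S0_le hm, by
      rw [show W.omHom h8 ⟨m, S0_le hm⟩ = g from Subtype.ext e.symm]; exact hg⟩
    rw [h m this, map_one] at e
    exact Subgroup.mem_bot.2 (Subtype.ext e)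
  obtain ⟨v, hv, hv1⟩ : ∃ v : Sg, MS.inl v ∈ Tm ∧ v ≠ 1 := by
    by_cases hs : x.s = 1
    · refine ⟨x.e, ?_, fun h => hx1 (MS.ext h hs)⟩
      rwa [show MS.inl x.e = x from MS.ext rfl hs.symm]
    · obtain ⟨e, he, i, hi⟩ := exists_even_moved x.s (hTm hx).2 hs
      have heS : MS.inl e ∈ S0 := inl_mem_S0 he
      have hc := Tm.mul_mem (clm x hx _ (S0_le heS)
        (S0.mul_mem (S0.mul_mem heS (hTm hx)) (S0.inv_mem heS))) (Tm.inv_mem hx)
      refine ⟨fun j => e j * e (x.s⁻¹ j), ?_, fun h => hi ?_⟩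
      · convert hc using 1
        refine MS.ext (funext fun j => ?_) (by simp)
        rcases Int.units_eq_one_or (x.e j) with h | h <;> simp [h, mul_comm]
      · exact ((mul_eq_one_iff_eq_inv.1 (congrFun h i)).trans (Int.units_inv_eq_self _)).symm
  have hperm : ∀ (e : Sg) (π : Equiv.Perm (Fin 7)), Equiv.Perm.sign π = 1 → MS.inl e ∈ Tm →
      MS.inl (fun j => e (π⁻¹ j)) ∈ Tm := by
    intro e π hπ he
    have e1 : MS.inr π * MS.inl e * (MS.inr π)⁻¹ = MS.inl (fun j => e (π⁻¹ j)) :=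
      MS.ext (funext fun j => by simp) (by simp)
    have he' : ∏ j, e (π⁻¹ j) = 1 := by rw [Equiv.prod_comp π⁻¹ e]; exact (hTm he).1
    rw [← e1]
    exact clm _ he _ ⟨MS.par_inr π, hπ⟩ (e1 ▸ inl_mem_S0 he')
  obtain ⟨i, j, k, l, hi, hj, hkl, hne⟩ := exists_pair v (hTm hv).1 hv1
  have hij : MS.inl (fl i j) ∈ Tm := by
    rw [← pair_mul hi hj hkl hne]
    have := Tm.mul_mem hv (hperm v _ (sign_two_swaps hne.1 hne.2.2.2.2.2) hv)
    rwa [← map_mul] at this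
  have hpair : ∀ a b : Fin 7, a ≠ b → MS.inl (fl a b) ∈ Tm := fun a b hab => by
    obtain ⟨π, hπ, hπi, hπj⟩ := exists_even_map hne.1 hab
    have := hperm _ π hπ hij
    convert this using 2
    funext y
    simp only [fl, Equiv.Perm.inv_def, Equiv.symm_apply_eq, hπi, hπj]
  have hE : ∀ e : Sg, (∏ i, e i = 1) → MS.inl e ∈ Tm := fun e he => by
    show e ∈ Tm.comap MS.inl
    rw [even_eq_prod e he]
    refine Subgroup.prod_mem _ fun c _ => ?_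
    split_ifs
    · exact hpair _ _ (Fin.castSucc_lt_last c).ne
    · exact Subgroup.one_mem _
  have hd1S : MS.inr d1 ∈ S0 := ⟨MS.par_inr _, by decide +kernel⟩
  have hd1 : MS.inr d1 ∈ Tm := by
    obtain ⟨h, h'⟩ := mem_Tm.1 (hpair 0 1 (by decide))
    have e : (⟨W.omg, W.omg_mem⟩ : ↥(Cfsg.Omega F ⇑Q)) * W.omHom h8 ⟨_, h⟩ * ⟨W.omg, W.omg_mem⟩⁻¹ =
        W.omHom h8 ⟨MS.inr d1, S0_le hd1S⟩ := by
      rw [mul_inv_eq_iff_eq_mul]
      exact Subtype.ext W.omg_conj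
    exact mem_Tm.2 ⟨S0_le hd1S, e ▸ cl _ h' _ (e ▸ ⟨⟨_, S0_le hd1S⟩, hd1S, rfl⟩)⟩
  have hD : ∀ π δ : Equiv.Perm (Fin 7), Equiv.Perm.sign π = 1 → δ ∈ Dlist → π * d1 * π⁻¹ = δ →
      MS.inr δ ∈ Tm := by
    rintro π δ hπ hδ rfl
    rw [map_mul, map_mul, map_inv]
    refine clm _ hd1 _ ⟨MS.par_inr π, hπ⟩ ?_
    rw [← map_inv, ← map_mul, ← map_mul]
    exact ⟨MS.par_inr _, hδ⟩
  intro g hg
  obtain ⟨m, hm, e⟩ := (W.mem_syl h8).1 hg
  have hmT : m ∈ Tm := by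
    rw [MS.split m]
    refine Tm.mul_mem (hE _ hm.1) ?_
    obtain ⟨π2, h2, e2⟩ := d2_conj
    obtain ⟨π3, h3, e3⟩ := d3_conj
    exact Dlist_gen (T := Tm.comap MS.inr) hd1
      (hD π2 d2 h2 (by decide +kernel) e2) (hD π3 d3 h3 (by decide +kernel) e3) _ hm.2
  obtain ⟨h, h'⟩ := mem_Tm.1 hmT
  rwa [show g = W.omHom h8 ⟨m, h⟩ from Subtype.ext e]

end Frm

end Cfsg.Agent.Fusion.OmegaSeven
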