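import Cfsg.Agent.Lib.Fusion.OmegaSeven.SignedPerm
import Cfsg.Agent.Lib.Classical.OmegaCrit

/-!
# Signed permutations of an orthogonal frame in seven dimensions

The signed permutations of an orthogonal frame of vectors of one norm, their parity and spinor norm, and
the exchange of a sign change with a double transposition inside `Ω`.
-/

set_option autoImplicit false

namespace Cfsg.Agent.Fusion.OmegaSeven

open Cfsg.Agent.Forms Cfsg.Agent.Forms.QuadStd Cfsg.Agent.Forms.Reflections
open Cfsg.Agent.Classical.OmegaCrit Equiv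

variable {F : Type*} [Field F] [Fintype F] {ι : Type} [Fintype ι] [DecidableEq ι]
variable {Q : QuadraticForm F (ι → F)}

/-- An orthogonal frame of seven vectors of one norm. -/
structure Frm (Q : QuadraticForm F (ι → F)) where
  /-- the vectors -/
  w : Fin 7 → ι → F
  /-- the norm -/
  c : F
  c_ne : c ≠ 0
  two_ne : (2 : F) ≠ 0
  card_eq : Fintype.card ι = 7
  norm_eq : ∀ i, Q (w i) = c
  orth : ∀ i j, i ≠ j → QuadraticMap.polar Q (w i) (w j) = 0

theorem fl_even : ∀ a b : Fin 7, a ≠ b → ∏ i, fl a b i = 1 := by decide +kernel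

namespace Frm

variable (W : Frm Q)

theorem polar_w (i j : Fin 7) : QuadraticMap.polar Q (W.w i) (W.w j) = if i = j then 2 * W.c else 0 := by
  split_ifs with h
  · subst h; rw [QuadraticMap.polar_self, W.norm_eq, two_nsmul, two_mul]
  · exact W.orth i j h

theorem polar_sum (x : Fin 7 → F) (j : Fin 7) :
    QuadraticMap.polar Q (∑ i, x i • W.w i) (W.w j) = x j * (2 * W.c) := by
  have h : QuadraticMap.polar Q (∑ i, x i • W.w i) (W.w j) =
      ∑ i, x i * QuadraticMap.polar Q (W.w i) (W.w j) := by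
    show QuadraticMap.polarBilin Q _ _ = _
    rw [map_sum, LinearMap.sum_apply]
    refine Finset.sum_congr rfl fun i _ => ?_
    rw [map_smul, LinearMap.smul_apply, smul_eq_mul]
    rfl
  rw [h, Finset.sum_eq_single j (fun i _ hi => by rw [W.orth i j hi, mul_zero]) (by simp),
    W.polar_w, if_pos rfl]

theorem indep : LinearIndependent F W.w := Fintype.linearIndependent_iff.2 fun x hx j => by
  have h := W.polar_sum x j
  rw [hx, QuadraticMap.polar_zero_left] at h
  exact (mul_eq_zero.1 h.symm).resolve_right (mul_ne_zero W.two_ne W.c_ne)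

/-- The basis. -/
noncomputable def basis : Module.Basis (Fin 7) F (ι → F) :=
  basisOfLinearIndependentOfCardEqFinrank W.indep (by simp [W.card_eq])

@[simp] theorem coe_basis : ⇑W.basis = W.w := coe_basisOfLinearIndependentOfCardEqFinrank _ _

theorem repr_sum (v : ι → F) : ∑ i, W.basis.repr v i • W.w i = v := by
  conv_rhs => rw [← W.basis.sum_repr v]
  simp

theorem norm_sum (x : Fin 7 → F) : Q (∑ i, x i • W.w i) = W.c * ∑ i, x i ^ 2 := by
  have h : 2 * Q (∑ i, x i • W.w i) = 2 * (W.c * ∑ i, x i ^ 2) := by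
    rw [two_mul, ← two_nsmul, ← QuadraticMap.polar_self]
    show QuadraticMap.polarBilin Q _ (∑ j, x j • W.w j) = _
    rw [map_sum]
    simp only [map_smul, smul_eq_mul]
    rw [Finset.mul_sum, Finset.mul_sum]
    refine Finset.sum_congr rfl fun j _ => ?_
    show x j * QuadraticMap.polar Q _ (W.w j) = _
    rw [W.polar_sum]; ring
  exact mul_left_cancel₀ W.two_ne h

theorem ext_w {g h : Cfsg.isometryGroup F ⇑Q} (e : ∀ i, act g (W.w i) = act h (W.w i)) : g = h := by
  have : act g = act h := W.basis.ext fun i => by simpa using e i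
  exact iso_ext fun v => by rw [← act_apply, ← act_apply, this]

/-- A sign as a scalar. -/
def sc (u : ℤˣ) : F := ((u : ℤ) : F)

omit [Fintype F] in
theorem sc_mul (u v : ℤˣ) : (sc (u * v) : F) = sc u * sc v := by simp [sc]

omit [Fintype F] in
theorem sc_sq (u : ℤˣ) : (sc u : F) ^ 2 = 1 := by
  rcases Int.units_eq_one_or u with rfl | rfl <;> simp [sc]

theorem sc_inj {u v : ℤˣ} (h : (sc u : F) = sc v) (h2 : (2 : F) ≠ 0) : u = v := by
  rcases Int.units_eq_one_or u with rfl | rfl <;> rcases Int.units_eq_one_or v with rfl | rfl <;>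
    first
      | rfl
      | exact absurd (by simp [sc] at h; linear_combination h) h2
      | exact absurd (by simp [sc] at h; linear_combination -h) h2

/-- The linear map of a signed permutation. -/
noncomputable def lin (m : MS) : (ι → F) →ₗ[F] (ι → F) :=
  W.basis.constr F fun i => (sc (m.e (m.s i)) : F) • W.w (m.s i)

theorem lin_w (m : MS) (i : Fin 7) : W.lin m (W.w i) = (sc (m.e (m.s i)) : F) • W.w (m.s i) := by
  conv_lhs => rw [← W.coe_basis]
  exact W.basis.constr_basis F _ i

theorem lin_mul (a b : MS) : W.lin (a * b) = W.lin a ∘ₗ W.lin b := W.basis.ext fun i => by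
  simp only [coe_basis, LinearMap.comp_apply, lin_w, map_smul, smul_smul]
  simp [mul_comm, sc_mul]

theorem lin_one : W.lin 1 = LinearMap.id := W.basis.ext fun i => by
  simp [lin_w, sc]

theorem lin_norm (m : MS) (v : ι → F) : Q (W.lin m v) = Q v := by
  obtain ⟨x, rfl⟩ : ∃ x : Fin 7 → F, v = ∑ i, x i • W.w i := ⟨_, (W.repr_sum v).symm⟩
  have : W.lin m (∑ i, x i • W.w i) = ∑ j, (x (m.s⁻¹ j) * sc (m.e j)) • W.w j := by
    rw [map_sum, ← Equiv.sum_comp m.s fun j => (x (m.s⁻¹ j) * sc (m.e j)) • W.w j]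
    refine Finset.sum_congr rfl fun i _ => ?_
    rw [map_smul, lin_w, smul_smul, Equiv.Perm.inv_def, Equiv.symm_apply_apply]
  rw [this, W.norm_sum, W.norm_sum, ← Equiv.sum_comp m.s fun j => (x (m.s⁻¹ j) * sc (m.e j)) ^ 2]
  congr 1
  refine Finset.sum_congr rfl fun i _ => ?_
  rw [mul_pow, sc_sq, mul_one, Equiv.Perm.inv_def, Equiv.symm_apply_apply]

/-- The linear equivalence of a signed permutation. -/
noncomputable def linEquiv (m : MS) : (ι → F) ≃ₗ[F] (ι → F) :=
  LinearEquiv.ofLinearMap (W.lin m) (W.lin m⁻¹)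
    (by rw [← lin_mul, mul_inv_cancel, lin_one]) (by rw [← lin_mul, inv_mul_cancel, lin_one])

theorem linEquiv_apply (m : MS) (v : ι → F) : W.linEquiv m v = W.lin m v := rfl

theorem linEquiv_norm (m : MS) (v : ι → F) : Q (W.linEquiv m v) = Q v := W.lin_norm m v

/-- The monomial isometry of a signed permutation. -/
noncomputable def mon : MS →* Cfsg.isometryGroup F ⇑Q where
  toFun m := isoOfEquiv ⇑Q (W.linEquiv m) (W.linEquiv_norm m)
  map_one' := iso_ext fun v => by
    rw [isoOfEquiv_mulVec, linEquiv_apply, lin_one]; simp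
  map_mul' a b := iso_ext fun v => by
    rw [isoOfEquiv_mulVec, mul_mulVec_iso, isoOfEquiv_mulVec, isoOfEquiv_mulVec]
    exact LinearMap.congr_fun (W.lin_mul a b) v

theorem act_mon (m : MS) (i : Fin 7) :
    act (W.mon m) (W.w i) = (sc (m.e (m.s i)) : F) • W.w (m.s i) := by
  rw [act_apply]
  exact (isoOfEquiv_mulVec ⇑Q (W.linEquiv m) (W.linEquiv_norm m) _).trans (W.lin_w m i)

theorem smul_w_eq {a b : F} {i j : Fin 7} (ha : a ≠ 0) (h : a • W.w i = b • W.w j) : i = j ∧ a = b := by
  have h' := congrArg (fun v => QuadraticMap.polar Q v (W.w i)) h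
  simp only [QuadraticMap.polar_smul_left, smul_eq_mul] at h'
  rw [W.polar_w, W.polar_w, if_pos rfl] at h'
  have hne : 2 * W.c ≠ 0 := mul_ne_zero W.two_ne W.c_ne
  by_cases hij : j = i
  · rw [if_pos hij] at h'
    exact ⟨hij.symm, mul_right_cancel₀ hne h'⟩
  · rw [if_neg hij, mul_zero] at h'
    exact absurd h' (mul_ne_zero ha hne)

theorem mon_injective : Function.Injective W.mon := fun a b h => by
  have key : ∀ i, a.s i = b.s i ∧ a.e (a.s i) = b.e (b.s i) := fun i => by
    have e := congrArg (fun g => act g (W.w i)) h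
    simp only [act_mon] at e
    have h0 : (sc (a.e (a.s i)) : F) ≠ 0 := fun h0 => by simpa [h0] using sc_sq (F := F) (a.e (a.s i))
    obtain ⟨h1, h2⟩ := W.smul_w_eq h0 e
    exact ⟨h1, sc_inj h2 W.two_ne⟩
  have hs : a.s = b.s := Equiv.ext fun i => (key i).1
  refine MS.ext (funext fun x => ?_) hs
  obtain ⟨i, rfl⟩ := a.s.surjective x
  rw [(key i).2, hs]

theorem act_reflect_w (v : ι → F) (x : Fin 7 → F) (hv : v = ∑ i, x i • W.w i) (i : Fin 7) :
    act (reflect Q v) (W.w i) = W.w i - ((Q v)⁻¹ * (x i * (2 * W.c))) • v := by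
  rw [act_reflect]
  conv_lhs => arg 2; arg 1; arg 2; rw [hv, W.polar_sum]

theorem mon_flip (j : Fin 7) :
    W.mon (MS.inl (Pi.mulSingle j (-1))) = reflect Q (W.w j) := W.ext_w fun i => by
  rw [act_mon, act_reflect, W.polar_w, W.norm_eq]
  by_cases h : j = i
  · subst h
    rw [if_pos rfl, show W.c⁻¹ * (2 * W.c) = 2 by field_simp [W.c_ne]]
    simp [sc, two_smul]
  · simp [sc, if_neg h, Pi.mulSingle_eq_of_ne' h]

theorem norm_sub {a b : Fin 7} (hab : a ≠ b) : Q (W.w a - W.w b) = 2 * W.c := by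
  have h : QuadraticMap.polar Q (W.w a - W.w b) (W.w a - W.w b) = 2 * (2 * W.c) := by
    simp only [QuadraticMap.polar_sub_left, QuadraticMap.polar_sub_right, W.polar_w, if_neg hab,
      if_neg (Ne.symm hab), if_true]
    ring
  rw [QuadraticMap.polar_self, two_nsmul, ← two_mul] at h
  exact mul_left_cancel₀ W.two_ne h

theorem mon_swap {a b : Fin 7} (hab : a ≠ b) :
    W.mon (MS.inr (swap a b)) = reflect Q (W.w a - W.w b) := W.ext_w fun i => by
  rw [act_mon, act_reflect, W.norm_sub hab, QuadraticMap.polar_sub_left, W.polar_w, W.polar_w]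
  have h1 : W.c⁻¹ * 2⁻¹ * (2 * W.c) = 1 := by
    rw [← mul_inv_rev]; exact inv_mul_cancel₀ (mul_ne_zero W.two_ne W.c_ne)
  by_cases ha : a = i
  · subst ha
    simp [sc, h1, if_neg (Ne.symm hab)]
  · by_cases hb : b = i
    · subst hb
      simp [sc, h1, if_neg hab, mul_neg]
    · simp [sc, if_neg ha, if_neg hb, swap_apply_of_ne_of_ne (Ne.symm ha) (Ne.symm hb)]

include W in
theorem nondeg : (QuadraticMap.polarBilin Q).Nondegenerate := by
  have key : ∀ v, (∀ j, QuadraticMap.polar Q v (W.w j) = 0) → v = 0 := fun v hv => by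
    rw [← W.repr_sum v]
    refine Finset.sum_eq_zero fun i _ => ?_
    have h := hv i
    rw [← W.repr_sum v, W.polar_sum] at h
    rw [(mul_eq_zero.1 h).resolve_right (mul_ne_zero W.two_ne W.c_ne), zero_smul]
  exact ⟨fun v hv => key v fun j => hv (W.w j), fun v hv => key v fun j => by
    rw [QuadraticMap.polar_comm]; exact hv (W.w j)⟩

include W in
theorem card_cond : Fintype.card F ≠ 2 ∨ Fintype.card ι ≠ 4 := Or.inr (by rw [W.card_eq]; norm_num)

theorem theta_mon (h8 : ¬ IsSquare (2 : F)) (m : MS) :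
    theta W.nondeg W.card_cond (W.mon m) = 1 ↔ m ∈ K0 := by
  classical
  let ψ : ℤˣ →* ℤˣ := if chi W.c = -1 then MonoidHom.id _ else 1
  let Ψ : MS →* ℤˣ × ℤˣ := (MS.par * MS.sg).prod ((ψ.comp (MS.par * MS.sg)) * MS.sg)
  have hψ : ψ (-1) = chi W.c := by
    rcases Int.units_eq_one_or (chi W.c) with h | h <;> simp [ψ, h]
  have hp : ∀ i : Fin 7, ∏ x, (Pi.mulSingle i (-1) : Sg) x = -1 := fun i => by simp
  have e : (theta W.nondeg W.card_cond).comp W.mon = Ψ := by
    refine MS.hom_ext (fun i => ?_) fun a b hab => ?_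
    · rw [MonoidHom.comp_apply, mon_flip, theta_reflect _ _ (by rw [W.norm_eq]; exact W.c_ne),
        W.norm_eq]
      simp [Ψ, MS.par, MS.sg, hp, hψ]
    · rw [MonoidHom.comp_apply, W.mon_swap hab, theta_reflect _ _
        (by rw [W.norm_sub hab]; exact mul_ne_zero W.two_ne W.c_ne), W.norm_sub hab,
        chi_mul W.two_ne W.c_ne, chi_eq_neg_one_iff.2 h8]
      simp [Ψ, MS.par, MS.sg, Equiv.Perm.sign_swap hab, hψ, mul_comm]
  rw [← MonoidHom.comp_apply, e, mem_K0]
  show ((MS.par * MS.sg) m, ψ ((MS.par * MS.sg) m) * MS.sg m) = 1 ↔ _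
  rw [Prod.mk_eq_one]
  constructor
  · rintro ⟨h1, h2⟩
    rw [h1, map_one, one_mul] at h2
    rw [MonoidHom.mul_apply, h2, mul_one] at h1
    exact ⟨h1, h2⟩
  · rintro ⟨h1, h2⟩
    have : (MS.par * MS.sg) m = 1 := by
      rw [MonoidHom.mul_apply, show MS.par m = 1 from h1, show MS.sg m = 1 from h2, one_mul]
    exact ⟨this, by rw [this, map_one, one_mul]; exact h2⟩

theorem mon_mem_omega (h8 : ¬ IsSquare (2 : F)) {m : MS} (hm : m ∈ K0) :
    W.mon m ∈ Cfsg.Omega F ⇑Q :=
  (mem_omega_iff W.nondeg W.card_cond _).2 ((W.theta_mon h8 m).2 hm)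

/-- The vector whose reflection exchanges the sign change at `0, 1` with `(0 1)(2 3)`. -/
def hv : ι → F := W.w 0 + W.w 1 - W.w 2 + W.w 3

/-- The element of `Ω` exchanging the sign change at `0, 1` with `(0 1)(2 3)`. -/
def omg : Cfsg.isometryGroup F ⇑Q := reflect Q W.hv * reflect Q (W.w 4)

theorem hv_sum : W.hv = ∑ i, (![1, 1, -1, 1, 0, 0, 0] : Fin 7 → F) i • W.w i := by
  simp [hv, Fin.sum_univ_seven]; abel

theorem norm_hv : Q W.hv = 4 * W.c := by
  rw [W.hv_sum, W.norm_sum]
  simp [Fin.sum_univ_seven]; ring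

include W in
theorem four_ne : (4 : F) ≠ 0 := by
  have h := mul_ne_zero W.two_ne W.two_ne
  norm_num at h
  exact h

theorem omg_mem : W.omg ∈ Cfsg.Omega F ⇑Q := by
  refine (mem_omega_iff W.nondeg W.card_cond _).2 ?_
  have h4 : Q W.hv ≠ 0 := by rw [W.norm_hv]; exact mul_ne_zero W.four_ne W.c_ne
  have hc : Q (W.w 4) ≠ 0 := by rw [W.norm_eq]; exact W.c_ne
  rw [omg, map_mul, theta_reflect _ _ h4, theta_reflect _ _ hc, W.norm_hv, W.norm_eq,
    chi_mul W.four_ne W.c_ne, chi_eq_one_iff.2 ⟨2, by norm_num⟩]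
  simp [Prod.ext_iff, Int.units_mul_self]

theorem omg_conj : W.omg * W.mon (MS.inl (fl 0 1)) = W.mon (MS.inr d1) * W.omg := by
  have hv' : ∀ i, act (reflect Q W.hv) (W.w i) =
      W.w i - ((2 : F)⁻¹ * (![1, 1, -1, 1, 0, 0, 0] : Fin 7 → F) i) • W.hv := fun i => by
    rw [W.act_reflect_w _ _ W.hv_sum, W.norm_hv]
    congr 2
    field_simp [W.c_ne, W.two_ne, W.four_ne]
    ring
  have h4 : ∀ i, act (reflect Q (W.w 4)) (W.w i) = if (4 : Fin 7) = i then -W.w i else W.w i := fun i => by
    rw [act_reflect, W.polar_w, W.norm_eq]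
    split_ifs with h
    · subst h
      rw [show W.c⁻¹ * (2 * W.c) = 2 by field_simp [W.c_ne], two_smul]; abel
    · simp
  have hom : ∀ i, act W.omg (W.w i) = if (4 : Fin 7) = i then -W.w i else
      W.w i - ((2 : F)⁻¹ * (![1, 1, -1, 1, 0, 0, 0] : Fin 7 → F) i) • W.hv := fun i => by
    rw [omg, act_mul, h4]
    split_ifs with h
    · subst h; rw [map_neg, hv']; simp
    · exact hv' i
  refine W.ext_w fun i => ?_
  have hmd : ∀ j, act (W.mon (MS.inr d1)) (W.w j) = W.w (d1 j) := fun j => by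
    rw [act_mon]; simp [sc]
  rw [act_mul, act_mul, act_mon, map_smul, hom, hom]
  have h2 := W.two_ne
  have hd : d1 0 = 1 ∧ d1 1 = 0 ∧ d1 2 = 3 ∧ d1 3 = 2 ∧ d1 4 = 4 ∧ d1 5 = 5 ∧ d1 6 = 6 := by
    decide +kernel
  obtain ⟨e0, e1, e2, e3, e4, e5, e6⟩ := hd
  fin_cases i <;>
    (simp [fl, sc, hv, map_sub, map_add, map_neg, hmd, e0, e1, e2, e3, e4, e5, e6]
     <;> match_scalars <;> field_simp <;> ring)

/-- The frame moved by an isometry. -/
noncomputable def move (g : Cfsg.isometryGroup F ⇑Q) : Frm Q where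
  w i := act g (W.w i)
  c := W.c
  c_ne := W.c_ne
  two_ne := W.two_ne
  card_eq := W.card_eq
  norm_eq i := by rw [act_map, W.norm_eq]
  orth i j h := by rw [act_polar, W.orth i j h]

theorem mon_move (g : Cfsg.isometryGroup F ⇑Q) (m : MS) :
    (W.move g).mon m = g * W.mon m * g⁻¹ := (W.move g).ext_w fun i => by
  rw [act_mon]
  show _ = act (g * W.mon m * g⁻¹) (act g (W.w i))
  rw [← act_mul, inv_mul_cancel_right, act_mul, act_mon, map_smul]
  rfl

/-- An isometry normalising the sign changes of even weight is monomial. -/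
theorem exists_mon (g : Cfsg.isometryGroup F ⇑Q)
    (hg : ∀ e : Sg, (∏ i, e i = 1) → ∃ e' : Sg, W.mon (MS.inl e) * g = g * W.mon (MS.inl e')) :
    ∃ m : MS, g = W.mon m := by
  classical
  have hact : ∀ (e : Sg) (v : ι → F), act (W.mon (MS.inl e)) v =
      ∑ j, (W.basis.repr v j * sc (e j)) • W.w j := fun e v => by
    conv_lhs => rw [← W.repr_sum v, map_sum]
    simp only [map_smul, act_mon, smul_smul, MS.inl_e, MS.inl_s, Equiv.Perm.one_apply]
  have key : ∀ i, ∃ (j : Fin 7) (u : ℤˣ), act g (W.w i) = (sc u : F) • W.w j := by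
    intro i
    set v := act g (W.w i) with hv0
    set x := W.basis.repr v with hx
    have hnorm : Q v = W.c := by rw [hv0, act_map, W.norm_eq]
    have hone : ∀ j k, x j ≠ 0 → x k ≠ 0 → j = k := by
      intro j k hj hk
      by_contra hjk
      obtain ⟨l, _, hl, _, hl', _, _⟩ := exists_two_outside j k
      obtain ⟨e', he'⟩ := hg (fl k l) (fl_even k l (Ne.symm hl'))
      have h1 := congrArg (fun z => act z (W.w i)) he'
      simp only [act_mul, act_mon, map_smul, MS.inl_e, MS.inl_s, Equiv.Perm.one_apply, ← hv0] at h1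
      rw [hact] at h1
      have h2 : ∀ a, x a * sc (fl k l a) = sc (e' i) * x a := fun a => by
        have h3 := congrArg (fun z => QuadraticMap.polar Q z (W.w a)) h1
        simp only [W.polar_sum, QuadraticMap.polar_smul_left, smul_eq_mul] at h3
        have h4 : QuadraticMap.polar Q v (W.w a) = x a * (2 * W.c) := by
          conv_lhs => rw [← W.repr_sum v, W.polar_sum]
        rw [h4, ← mul_assoc] at h3
        exact mul_right_cancel₀ (mul_ne_zero W.two_ne W.c_ne) (by linear_combination h3)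
      have e1 : (sc (fl k l j) : F) = sc (e' i) := mul_left_cancel₀ hj ((h2 j).trans (mul_comm _ _))
      have e2 : (sc (fl k l k) : F) = sc (e' i) := mul_left_cancel₀ hk ((h2 k).trans (mul_comm _ _))
      have e3 := sc_inj (e1.trans e2.symm) W.two_ne
      simp [fl, hjk, Ne.symm hl] at e3
    obtain ⟨j, hj⟩ : ∃ j, x j ≠ 0 := by
      by_contra h
      push Not at h
      have : v = 0 := by
        rw [← W.repr_sum v]; exact Finset.sum_eq_zero fun a _ => by rw [← hx, h a, zero_smul]
      rw [this, QuadraticMap.map_zero] at hnorm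
      exact W.c_ne hnorm.symm
    have hvj : v = x j • W.w j := by
      conv_lhs => rw [← W.repr_sum v]
      exact Finset.sum_eq_single j (fun a _ ha => by
        rw [← hx, show x a = 0 from by_contra fun h => ha (hone a j h hj), zero_smul]) (by simp)
    rw [hvj, QuadraticMap.map_smul, W.norm_eq, smul_eq_mul] at hnorm
    have : x j * x j = 1 := mul_right_cancel₀ W.c_ne (hnorm.trans (one_mul _).symm)
    rcases mul_self_eq_one_iff.1 this with h | h
    · exact ⟨j, 1, by rw [hvj, h]; simp [sc]⟩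
    · exact ⟨j, -1, by rw [hvj, h]; simp [sc]⟩
  choose σ u hσ using key
  have hinj : Function.Injective σ := fun i k h => by
    by_contra hik
    have h1 := act_polar g (W.w i) (W.w k)
    rw [W.orth i k hik, hσ i, hσ k, h, QuadraticMap.polar_smul_left, QuadraticMap.polar_smul_right,
      W.polar_w, if_pos rfl, smul_eq_mul, smul_eq_mul] at h1
    have hz : ∀ a : ℤˣ, (sc a : F) ≠ 0 := fun a h0 => by simpa [h0] using sc_sq (F := F) a
    simp [hz, W.two_ne, W.c_ne] at h1
  let π : Equiv.Perm (Fin 7) := Equiv.ofBijective σ ⟨hinj, Finite.injective_iff_surjective.1 hinj⟩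
  refine ⟨⟨fun a => u (π⁻¹ a), π⟩, W.ext_w fun i => ?_⟩
  rw [act_mon, hσ]
  simp [π]
  rfl

end Frm

end Cfsg.Agent.Fusion.OmegaSeven
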