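import Cfsg.Agent.Lib.Fusion.OmegaSeven.FiniteFacts

/-!
# Signed permutations of seven coordinates

The group `{±1}^7 ⋊ S₇`, its subgroup `2^6 ⋊ A₇` and the `2`-subgroup `2^6 ⋊ D₈`, together with the
finite facts used for the `2`-fusion of the seven dimensional orthogonal groups.
-/

set_option autoImplicit false
set_option maxRecDepth 20000
set_option maxHeartbeats 1000000

namespace Cfsg.Agent.Fusion.OmegaSeven

open Equiv

/-- Signed permutations. -/
@[ext]
structure MS where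
  /-- the signs -/
  e : Sg
  /-- the permutation -/
  s : Equiv.Perm (Fin 7)
  deriving DecidableEq, Fintype

namespace MS

instance : Mul MS := ⟨fun a b => ⟨fun i => a.e i * b.e (a.s⁻¹ i), a.s * b.s⟩⟩
instance : One MS := ⟨⟨1, 1⟩⟩
instance : Inv MS := ⟨fun a => ⟨fun i => a.e (a.s i), a.s⁻¹⟩⟩

@[simp] theorem mul_e (a b : MS) (i : Fin 7) : (a * b).e i = a.e i * b.e (a.s⁻¹ i) := rfl
@[simp] theorem mul_s (a b : MS) : (a * b).s = a.s * b.s := rfl
@[simp] theorem one_e : (1 : MS).e = 1 := rfl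
@[simp] theorem one_s : (1 : MS).s = 1 := rfl
@[simp] theorem inv_e (a : MS) (i : Fin 7) : a⁻¹.e i = a.e (a.s i) := rfl
@[simp] theorem inv_s (a : MS) : a⁻¹.s = a.s⁻¹ := rfl

instance : Group MS :=
  Group.ofLeftAxioms
    (fun a b c => MS.ext (funext fun i => by simp [mul_assoc, Equiv.Perm.mul_def])
      (by simp [mul_assoc]))
    (fun a => MS.ext (funext fun i => by simp) (by simp))
    (fun a => MS.ext (funext fun i => by simp [Int.units_mul_self]) (by simp))

/-- Signs. -/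
def inl : Sg →* MS where
  toFun e := ⟨e, 1⟩
  map_one' := rfl
  map_mul' a b := MS.ext (funext fun i => by simp) (by simp)

/-- Permutations. -/
def inr : Equiv.Perm (Fin 7) →* MS where
  toFun s := ⟨1, s⟩
  map_one' := rfl
  map_mul' a b := MS.ext (funext fun i => by simp) rfl

@[simp] theorem inl_e (e : Sg) : (inl e).e = e := rfl
@[simp] theorem inl_s (e : Sg) : (inl e).s = 1 := rfl
@[simp] theorem inr_e (s : Equiv.Perm (Fin 7)) : (inr s).e = 1 := rfl
@[simp] theorem inr_s (s : Equiv.Perm (Fin 7)) : (inr s).s = s := rfl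

theorem split (m : MS) : m = inl m.e * inr m.s := MS.ext (funext fun i => by simp) (by simp)

/-- The product of the signs. -/
def par : MS →* ℤˣ where
  toFun m := ∏ i, m.e i
  map_one' := by simp
  map_mul' a b := by
    simp only [mul_e, Finset.prod_mul_distrib]
    rw [Equiv.prod_comp (a.s⁻¹) b.e]

/-- The sign of the permutation. -/
def sg : MS →* ℤˣ where
  toFun m := Equiv.Perm.sign m.s
  map_one' := by simp
  map_mul' a b := by simp

theorem par_inl (e : Sg) : par (inl e) = ∏ i, e i := rfl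

theorem par_inr (s : Equiv.Perm (Fin 7)) : par (inr s) = 1 := by simp [par]

theorem hom_ext {N : Type*} [CommGroup N] {f g : MS →* N}
    (h1 : ∀ i, f (inl (Pi.mulSingle i (-1))) = g (inl (Pi.mulSingle i (-1))))
    (h2 : ∀ a b : Fin 7, a ≠ b → f (inr (swap a b)) = g (inr (swap a b))) : f = g := by
  have hl : f.comp inl = g.comp inl := by
    refine MonoidHom.functions_ext _ _ _ fun i u => ?_
    rcases Int.units_eq_one_or u with rfl | rfl
    · simp
    · exact h1 i
  have hr : f.comp inr = g.comp inr := MonoidHom.ext fun s => by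
    induction s using Equiv.Perm.swap_induction_on with
    | one => simp
    | swap_mul s a b hab ih =>
      simp only [MonoidHom.comp_apply] at ih ⊢
      rw [map_mul, map_mul, map_mul, ih, h2 a b hab]
  refine MonoidHom.ext fun m => ?_
  rw [split m, map_mul, map_mul]
  exact congrArg₂ (· * ·) (DFunLike.congr_fun hl m.e) (DFunLike.congr_fun hr m.s)

end MS

open MS

/-- A permutation normalising the dihedral group is a `2`-element. -/
theorem pow_eight_of_normalizes {π : Equiv.Perm (Fin 7)}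
    (h : ∀ δ ∈ Dlist, π * δ * π⁻¹ ∈ Dlist) : π ^ 8 = 1 := by
  have hsurj : ∀ δ' ∈ Dlist, ∃ δ ∈ Dlist, π * δ * π⁻¹ = δ' := by
    intro δ' hδ'
    let φ : Dg → Dg := fun δ => ⟨π * δ * π⁻¹, h _ δ.2⟩
    obtain ⟨⟨δ, hδ⟩, e⟩ := (Finite.injective_iff_surjective (f := φ)).1
      (fun x y e => Subtype.ext (by simpa [φ] using congrArg Subtype.val e)) ⟨δ', hδ'⟩
    exact ⟨δ, hδ, congrArg Subtype.val e⟩
  have hf : ∀ δ ∈ Dlist, ∃ δ' ∈ Dlist, ∀ x, δ' (π x) = π (δ x) := fun δ hδ =>
    ⟨_, h δ hδ, fun x => by simp⟩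
  have hb : ∀ δ' ∈ Dlist, ∀ x, ∃ δ ∈ Dlist, δ' (π x) = π (δ x) := by
    intro δ' hδ' x
    obtain ⟨δ, hδ, rfl⟩ := hsurj δ' hδ'
    exact ⟨δ, hδ, by simp⟩
  have h6 : π 6 = 6 := orbit_six _ fun δ' hδ' => by
    obtain ⟨δ, hδ, e⟩ := hb δ' hδ' 6
    have : ∀ δ ∈ Dlist, δ 6 = 6 := by decide +kernel
    rw [e, this δ hδ]
  have h45 : ∀ a b : Fin 7, (∀ δ ∈ Dlist, δ a = a ∨ δ a = b) → a ≠ 6 → π a = 4 ∨ π a = 5 := by
    intro a b hab ha
    rcases orbit_two (π a) (π b) (fun δ' hδ' => by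
      obtain ⟨δ, hδ, e⟩ := hb δ' hδ' a
      rcases hab δ hδ with e' | e' <;> rw [e, e'] <;> simp) with e | e | e
    · exact Or.inl e
    · exact Or.inr e
    · exact absurd (π.injective (e.trans h6.symm)) ha
  have h4 := h45 4 5 (by decide +kernel) (by decide)
  have h5 := h45 5 4 (by decide +kernel) (by decide)
  have hlt : ∀ x : Fin 7, x.val < 4 → (π x).val < 4 := by
    intro x hx
    have h1 : π x ≠ π 4 := fun e => by rw [π.injective e] at hx; exact absurd hx (by decide)
    have h2 : π x ≠ π 5 := fun e => by rw [π.injective e] at hx; exact absurd hx (by decide)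
    have h3 : π x ≠ π 6 := fun e => by rw [π.injective e] at hx; exact absurd hx (by decide)
    rw [h6] at h3
    have : (π 4 = 4 ∧ π 5 = 5) ∨ (π 4 = 5 ∧ π 5 = 4) := by
      rcases h4 with e | e <;> rcases h5 with e' | e'
      · exact absurd (π.injective (e.trans e'.symm)) (by decide)
      · exact Or.inl ⟨e, e'⟩
      · exact Or.inr ⟨e, e'⟩
      · exact absurd (π.injective (e.trans e'.symm)) (by decide)
    revert h1 h2 h3
    generalize π x = y
    rcases this with ⟨e, e'⟩ | ⟨e, e'⟩ <;> rw [e, e'] <;> revert y <;> decide +kernel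
  let r : ∀ x : Fin 7, x.val < 4 → Fin 4 := fun x hx => ⟨(π x).val, hlt x hx⟩
  obtain ⟨t, ht4, ht5⟩ : ∃ t : Bool, π 4 = (if t then 5 else 4) ∧ π 5 = (if t then 4 else 5) := by
    rcases h4 with e | e <;> rcases h5 with e' | e'
    · exact absurd (π.injective (e.trans e'.symm)) (by decide)
    · exact ⟨false, by simp [e], by simp [e']⟩
    · exact ⟨true, by simp [e], by simp [e']⟩
    · exact absurd (π.injective (e.trans e'.symm)) (by decide)
  have hne : ∀ (x y : Fin 7) (hx : x.val < 4) (hy : y.val < 4), x ≠ y → r x hx ≠ r y hy :=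
    fun x y hx hy hxy e => hxy (π.injective (Fin.ext (Fin.mk.inj e)))
  have key : cand (r 0 (by decide)) (r 1 (by decide)) (r 2 (by decide)) (r 3 (by decide)) t = ⇑π := by
    funext x
    fin_cases x <;> first | rfl | exact h6.symm | exact ht4.symm | exact ht5.symm
  have := normalizer_small (r 0 (by decide)) (r 1 (by decide)) (r 2 (by decide)) (r 3 (by decide)) t
  rw [key] at this
  refine Equiv.ext fun x => ?_
  have := this (hne 0 1 (by decide) (by decide) (by decide)) (hne 0 2 (by decide) (by decide) (by decide))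
    (hne 0 3 (by decide) (by decide) (by decide)) (hne 1 2 (by decide) (by decide) (by decide))
    (hne 1 3 (by decide) (by decide) (by decide)) (hne 2 3 (by decide) (by decide) (by decide)) hf x
  rwa [← Equiv.Perm.coe_pow] at this

/-- The subgroup `2^6 ⋊ A₇`. -/
def K0 : Subgroup MS := par.ker ⊓ sg.ker

theorem mem_K0 {m : MS} : m ∈ K0 ↔ (∏ i, m.e i = 1) ∧ Equiv.Perm.sign m.s = 1 := Iff.rfl

/-- The subgroup `2^6 ⋊ D₈`. -/
def S0 : Subgroup MS where
  carrier := {m | (∏ i, m.e i = 1) ∧ m.s ∈ Dg}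
  one_mem' := ⟨by simp, Dg.one_mem⟩
  mul_mem' {a b} ha hb := ⟨(map_mul par a b).trans (by
    show (∏ i, a.e i) * (∏ i, b.e i) = 1
    rw [ha.1, hb.1, one_mul]), Dg.mul_mem ha.2 hb.2⟩
  inv_mem' {a} ha := ⟨(map_inv par a).trans (by
    show (∏ i, a.e i)⁻¹ = 1
    rw [ha.1, inv_one]), Dg.inv_mem ha.2⟩

theorem mem_S0 {m : MS} : m ∈ S0 ↔ (∏ i, m.e i = 1) ∧ m.s ∈ Dg := Iff.rfl

theorem S0_le : S0 ≤ K0 := fun _ hm => ⟨hm.1, Dlist_even _ hm.2⟩

theorem card_S0 : Nat.card S0 = 2 ^ 9 := by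
  have e : ↥S0 ≃ {e : Sg // ∏ i, e i = 1} × Dg :=
    { toFun := fun m => (⟨m.1.e, m.2.1⟩, ⟨m.1.s, m.2.2⟩)
      invFun := fun p => ⟨⟨p.1.1, p.2.1⟩, ⟨p.1.2, p.2.2⟩⟩
      left_inv := fun _ => rfl
      right_inv := fun _ => rfl }
  rw [Nat.card_congr e, Nat.card_prod, card_even, card_Dg]; norm_num

theorem inl_mem_S0 {e : Sg} (he : ∏ i, e i = 1) : inl e ∈ S0 := ⟨he, Dg.one_mem⟩

theorem comm_inl {a : MS} {e : Sg} (h : a * inl e = inl e * a) :
    ∀ i, e (a.s⁻¹ i) = e i := fun i => by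
  have := congrArg (fun m : MS => m.e i) h
  simp only [mul_e, inl_e, inl_s, inv_one, Equiv.Perm.one_apply] at this
  rwa [mul_comm (e i), mul_right_inj] at this

/-- The sign vectors form the only elementary abelian subgroup of order `64`. -/
theorem perm_trivial_of_card {A : Subgroup MS} (hA : A ≤ S0)
    (hsq : ∀ a ∈ A, a * a = 1) (hcard : Nat.card A = 64) : ∀ a ∈ A, a.s = 1 := by
  classical
  have hcomm : ∀ a ∈ A, ∀ b ∈ A, a * b = b * a := fun a ha b hb => by
    have h : (a * b)⁻¹ = a * b := inv_eq_of_mul_eq_one_right (hsq _ (A.mul_mem ha hb))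
    rw [← h, mul_inv_rev, inv_eq_of_mul_eq_one_right (hsq a ha), inv_eq_of_mul_eq_one_right (hsq b hb)]
  by_contra hne
  push Not at hne
  obtain ⟨a, ha, ha1⟩ := hne
  let φ : ↥A →* Dg :=
    { toFun := fun x => ⟨x.1.s, (hA x.2).2⟩
      map_one' := rfl
      map_mul' := fun x y => rfl }
  have hmul : Nat.card φ.ker * Nat.card φ.range = 64 := by
    rw [← Subgroup.index_ker, Subgroup.card_mul_index, hcard]
  have hinv : ∀ x ∈ A, x.s * x.s = 1 := fun x hx => congrArg MS.s (hsq x hx)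
  have hker : ∀ x ∈ A, ∀ y : φ.ker, ∀ i, y.1.1.e (x.s i) = y.1.1.e i := fun x hx y i => by
    have hs : y.1.1.s = 1 := congrArg Subtype.val y.2
    have hy : y.1.1 = inl y.1.1.e := MS.ext rfl hs
    have := comm_inl (a := x) (e := y.1.1.e) (by rw [← hy]; exact hcomm x hx _ y.1.2) (x.s i)
    rw [Equiv.Perm.inv_def, Equiv.symm_apply_apply] at this
    exact this.symm
  have hk16 : Nat.card φ.ker ≤ 16 := by
    refine le_trans ?_ (Nat.card_eq_fintype_card.trans_le (fixed_le a.s (hA ha).2 ha1 (hinv a ha)))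
    refine Nat.card_le_card_of_injective (fun y => ⟨y.1.1.e, (hA y.1.2).1, hker a ha y⟩) fun y z h => ?_
    exact Subtype.ext (Subtype.ext (MS.ext (Subtype.mk.inj h)
      ((congrArg Subtype.val y.2).trans (congrArg Subtype.val z.2).symm)))
  have hR : ∀ r : φ.range, ∃ x ∈ A, x.s = r.1.1 := fun r => by
    obtain ⟨x, hx⟩ := r.2
    exact ⟨x.1, x.2, congrArg Subtype.val hx⟩
  have hR4 : 4 ≤ Nat.card φ.range := by nlinarith
  obtain ⟨b, hb, hb1, hba⟩ : ∃ b ∈ A, b.s ≠ 1 ∧ b.s ≠ a.s := by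
    by_contra h
    push Not at h
    have : Nat.card φ.range ≤ Nat.card Bool := by
      refine Nat.card_le_card_of_injective (fun r => decide (r.1.1 = 1)) fun r r' e => ?_
      obtain ⟨x, hx, hxs⟩ := hR r
      obtain ⟨y, hy, hys⟩ := hR r'
      have e' : r.1.1 = 1 ↔ r'.1.1 = 1 := decide_eq_decide.1 e
      refine Subtype.ext (Subtype.ext ?_)
      by_cases h1 : r.1.1 = 1
      · rw [h1, e'.1 h1]
      · rw [← hxs, ← hys, h x hx (hxs ▸ h1), h y hy (hys ▸ fun q => h1 (e'.2 q))]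
    rw [Nat.card_eq_fintype_card (α := Bool), Fintype.card_bool] at this
    omega
  have hk8 : Nat.card φ.ker ≤ 8 := by
    refine le_trans ?_ (Nat.card_eq_fintype_card.trans_le (fixed_pair_le a.s (hA ha).2 b.s (hA hb).2
      ha1 hb1 (Ne.symm hba) (hinv a ha) (hinv b hb) (congrArg MS.s (hcomm a ha b hb))))
    refine Nat.card_le_card_of_injective
      (fun y => ⟨y.1.1.e, (hA y.1.2).1, hker a ha y, hker b hb y⟩) fun y z h => ?_
    exact Subtype.ext (Subtype.ext (MS.ext (Subtype.mk.inj h)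
      ((congrArg Subtype.val y.2).trans (congrArg Subtype.val z.2).symm)))
  have htop : φ.range = ⊤ := by
    refine Subgroup.eq_top_of_le_card _ ?_
    rw [card_Dg]; nlinarith
  obtain ⟨x, hx⟩ := (htop ▸ Subgroup.mem_top _ : (⟨d2, by decide +kernel⟩ : Dg) ∈ φ.range)
  obtain ⟨y, hy⟩ := (htop ▸ Subgroup.mem_top _ : (⟨d3, by decide +kernel⟩ : Dg) ∈ φ.range)
  refine d23_ne ?_
  have := congrArg MS.s (hcomm x.1 x.2 y.1 y.2)
  rw [mul_s, mul_s, show x.1.s = d2 from congrArg Subtype.val hx,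
    show y.1.s = d3 from congrArg Subtype.val hy] at this
  exact this

end Cfsg.Agent.Fusion.OmegaSeven
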